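import Mathlib
import Groth.Agent.Lib.Helper8.AntiAff.Kun

/-!
# Finite group schemes over a perfect field: `G_red × G⁰ ≅ G` (helper8)

Over a field `k`, for `X : Over (Spec k)` with `X.left` affine: morphisms `T ⟶ X` are `k`-algebra
homs `Γ(X) → Γ(T)` (`hom_ext_of_pb`, `exists_hom_of_algHom`); infinitesimal uniqueness
(`hom_ext_of_surjective`) and existence of retractions (`exists_retraction`) for formally
unramified / smooth `Γ(X)`; a finite reduced algebra over a perfect field is formally étale;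
`isIso_mul` (S14587).
-/

set_option autoImplicit false
set_option linter.style.haveILetI false

universe u

open CategoryTheory CategoryTheory.Limits MonoidalCategory CartesianMonoidalCategory MonObj
  AlgebraicGeometry

namespace Groth.Agent.H8.RedSplit

open Groth.Agent.H8.AntiAff

variable {k : Type u} [Field k]

theorem hom_ext_of_pb {T X : Over (Spec (CommRingCat.of k))} [IsAffine X.left] (a b : T ⟶ X)
    (h : ∀ f, pb a f = pb b f) : a = b := by
  apply Over.OverMorphism.ext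
  apply ext_of_isAffine
  exact CommRingCat.hom_ext (RingHom.ext fun f => h f)

theorem exists_hom_of_algHom {T X : Over (Spec (CommRingCat.of k))} [IsAffine X.left]
    (ψ : Γ(X.left, ⊤) →ₐ[k] Γ(T.left, ⊤)) : ∃ a : T ⟶ X, ∀ f, pb a f = ψ f := by
  obtain ⟨φ, hφ⟩ : ∃ φ : Γ(X.left, ⊤) ⟶ Γ(T.left, ⊤), φ = CommRingCat.ofHom ψ.toRingHom :=
    ⟨_, rfl⟩
  obtain ⟨g, hg⟩ : ∃ g : T.left ⟶ X.left,
      g = T.left.toSpecΓ ≫ Spec.map φ ≫ X.left.isoSpec.inv := ⟨_, rfl⟩
  have e : X.left.isoSpec.inv.appTop ≫ (Scheme.ΓSpecIso Γ(X.left, ⊤)).hom = 𝟙 _ := by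
    have h1 : X.left.toSpecΓ ≫ X.left.isoSpec.inv = 𝟙 _ := X.left.isoSpec.hom_inv_id
    rw [← Scheme.toSpecΓ_appTop, ← Scheme.Hom.comp_appTop, h1]
    rfl
  have happ : g.appTop = φ := by
    rw [hg, Scheme.Hom.comp_appTop, Scheme.Hom.comp_appTop, Scheme.toSpecΓ_appTop,
      Category.assoc, Scheme.ΓSpecIso_naturality, ← Category.assoc, e, Category.id_comp]
  have hw : g ≫ X.hom = T.hom := by
    apply ext_of_isAffine
    rw [Scheme.Hom.comp_appTop, happ, ← cancel_epi (Scheme.ΓSpecIso (CommRingCat.of k)).inv]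
    refine CommRingCat.hom_ext (RingHom.ext fun c => ?_)
    rw [hφ]
    exact ψ.commutes c
  refine ⟨Over.homMk g hw, fun f => ?_⟩
  show g.appTop.hom f = ψ f
  rw [happ, hφ]
  rfl

theorem isNilpotent_of_pb_eq_zero {T₀ T : Over (Spec (CommRingCat.of k))} [CompactSpace T.left]
    (j : T₀ ⟶ T) [Surjective j.left] (f : Γ(T.left, ⊤)) (hf : pb j f = 0) : IsNilpotent f := by
  rw [Scheme.isNilpotent_iff_basicOpen_eq_bot]
  have h1 : j.left ⁻¹ᵁ (T.left.basicOpen f) = ⊥ := by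
    have h2 := Scheme.preimage_basicOpen_top j.left f
    have h3 : j.left.appTop.hom f = 0 := hf
    rw [h2]
    change T₀.left.basicOpen (j.left.appTop.hom f) = ⊥
    rw [h3, Scheme.basicOpen_zero]
  ext t
  simp only [TopologicalSpace.Opens.coe_bot, Set.mem_empty_iff_false, iff_false, SetLike.mem_coe]
  intro ht
  obtain ⟨t₀, rfl⟩ := j.left.surjective t
  have h4 : t₀ ∈ j.left ⁻¹ᵁ (T.left.basicOpen f) := ht
  rw [h1] at h4
  exact h4

theorem isNilpotent_ker_pb {T₀ T : Over (Spec (CommRingCat.of k))} [CompactSpace T.left]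
    [IsNoetherianRing Γ(T.left, ⊤)] (j : T₀ ⟶ T) [Surjective j.left] :
    IsNilpotent (RingHom.ker ((pb j : Γ(T.left, ⊤) →ₐ[k] Γ(T₀.left, ⊤)) :
      Γ(T.left, ⊤) →+* Γ(T₀.left, ⊤))) := by
  have hle : RingHom.ker ((pb j : Γ(T.left, ⊤) →ₐ[k] Γ(T₀.left, ⊤)) :
      Γ(T.left, ⊤) →+* Γ(T₀.left, ⊤)) ≤ nilradical Γ(T.left, ⊤) :=
    fun f hf => mem_nilradical.mpr (isNilpotent_of_pb_eq_zero j f (RingHom.mem_ker.mp hf))
  obtain ⟨n, hn⟩ := IsNoetherianRing.isNilpotent_nilradical Γ(T.left, ⊤)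
  refine ⟨n, ?_⟩
  rw [Ideal.zero_eq_bot, ← le_bot_iff]
  calc _ ≤ nilradical Γ(T.left, ⊤) ^ n := Ideal.pow_right_mono hle n
    _ = ⊥ := hn

/-- Infinitesimal uniqueness: two morphisms into an affine formally unramified `X` agreeing after
a morphism which is surjective on points (e.g. a nilpotent thickening) are equal. -/
theorem hom_ext_of_surjective {T₀ T X : Over (Spec (CommRingCat.of k))} [IsAffine X.left]
    [Algebra.FormallyUnramified k Γ(X.left, ⊤)] [IsAffine T.left]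
    [IsNoetherianRing Γ(T.left, ⊤)]
    (j : T₀ ⟶ T) [Surjective j.left] (a b : T ⟶ X) (h : j ≫ a = j ≫ b) : a = b := by
  have hab : pb a = pb b :=
    Algebra.FormallyUnramified.lift_unique' (pb j) (isNilpotent_ker_pb j) (pb a) (pb b)
      (AlgHom.ext fun f => by
        rw [AlgHom.comp_apply, AlgHom.comp_apply, ← pb_comp, ← pb_comp, h])
  exact hom_ext_of_pb a b (fun f => AlgHom.congr_fun hab f)

/-- A surjective closed immersion from a formally smooth affine scheme has a retraction. -/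
theorem exists_retraction {G Gr : Over (Spec (CommRingCat.of k))} [IsAffine G.left]
    [IsNoetherianRing Γ(G.left, ⊤)] [IsAffine Gr.left]
    [Algebra.FormallySmooth k Γ(Gr.left, ⊤)] (r : Gr ⟶ G) [IsClosedImmersion r.left]
    [Surjective r.left] : ∃ ρ : G ⟶ Gr, r ≫ ρ = 𝟙 Gr := by
  have hsurj : Function.Surjective (pb r) :=
    (IsClosedImmersion.isAffine_surjective_of_isAffine r.left).2
  obtain ⟨ψ, hψ⟩ : ∃ ψ : Γ(Gr.left, ⊤) →ₐ[k] Γ(G.left, ⊤), (pb r).comp ψ = AlgHom.id k _ :=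
    ⟨Algebra.FormallySmooth.liftOfSurjective (AlgHom.id k _) (pb r) hsurj (isNilpotent_ker_pb r),
      Algebra.FormallySmooth.comp_liftOfSurjective _ _ _ _⟩
  obtain ⟨ρ, hρ⟩ := exists_hom_of_algHom ψ
  refine ⟨ρ, hom_ext_of_pb _ _ fun f => ?_⟩
  rw [pb_comp, hρ, pb_id]
  exact AlgHom.congr_fun hψ f

theorem formallyEtale_of_reduced_finite [PerfectField k] (B : Type u) [CommRing B] [Algebra k B]
    [Module.Finite k B] [IsReduced B] : Algebra.FormallyEtale k B := by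
  haveI : IsArtinianRing B := IsArtinianRing.of_finite k B
  rw [Algebra.FormallyEtale.iff_exists_algEquiv_prod]
  letI : ∀ m : MaximalSpectrum B, Field (B ⧸ m.asIdeal) := fun m => Ideal.Quotient.field m.asIdeal
  refine ⟨MaximalSpectrum B, inferInstance, fun m => B ⧸ m.asIdeal, inferInstance, inferInstance,
    (IsArtinianRing.equivPi B).restrictScalars k, fun m => ?_⟩
  haveI : Algebra.IsAlgebraic k (B ⧸ m.asIdeal) := Algebra.IsAlgebraic.of_finite k _
  exact Algebra.IsAlgebraic.isSeparable_of_perfectField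

theorem finite_Γ (X : Over (Spec (CommRingCat.of k))) [IsFinite X.hom] :
    Module.Finite k Γ(X.left, ⊤) := by
  have hfin : (str X).Finite := by
    have h1 : (X.hom.appTop).hom.Finite := Scheme.Hom.finite_appTop X.hom
    have h2 : ((Scheme.ΓSpecIso (CommRingCat.of k)).inv).hom.Finite :=
      RingHom.Finite.of_surjective _
        (ConcreteCategory.bijective_of_isIso (Scheme.ΓSpecIso (CommRingCat.of k)).inv).2
    exact h1.comp h2
  exact hfin

/-- **S14587.** -/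
theorem isIso_mul [PerfectField k] (G Gr G₀ : Over (Spec (CommRingCat.of k))) [GrpObj G]
    [GrpObj Gr] [GrpObj G₀] [IsFinite G.hom]
    (r : Gr ⟶ G) [IsMonHom r] [IsClosedImmersion r.left] [IsReduced Gr.left] [Surjective r.left]
    (i₀ : G₀ ⟶ G) [IsMonHom i₀] [IsOpenImmersion i₀.left] [ConnectedSpace ↥G₀.left] :
    IsIso ((r ⊗ₘ i₀) ≫ μ[G]) := by
  haveI : IsAffine G.left := isAffine_of_isAffineHom G.hom
  haveI : Module.Finite k Γ(G.left, ⊤) := finite_Γ G
  haveI : IsArtinianRing Γ(G.left, ⊤) := IsArtinianRing.of_finite k _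
  haveI : IsFinite Gr.hom := by rw [← Over.w r]; infer_instance
  haveI : IsAffine Gr.left := isAffine_of_isAffineHom Gr.hom
  haveI : Module.Finite k Γ(Gr.left, ⊤) := finite_Γ Gr
  haveI : Algebra.FormallyEtale k Γ(Gr.left, ⊤) := formallyEtale_of_reduced_finite _
  haveI : IsFinite (G ⊗ G).hom := by rw [Over.tensorObj_hom]; infer_instance
  haveI : IsAffine (G ⊗ G).left := isAffine_of_isAffineHom (G ⊗ G).hom
  haveI : Module.Finite k Γ((G ⊗ G).left, ⊤) := finite_Γ _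
  haveI : IsArtinianRing Γ((G ⊗ G).left, ⊤) := IsArtinianRing.of_finite k _
  haveI : Surjective (r ⊗ₘ r).left := by
    rw [Over.tensorHom_left]
    exact MorphismProperty.pullbackMap (P := @Surjective) ‹Surjective r.left› ‹Surjective r.left›
      (Over.w r).symm (Over.w r).symm
  haveI : IsLocallyArtinian (Spec Γ(G.left, ⊤)) :=
    Scheme.isLocallyArtinianScheme_Spec.mpr inferInstance
  haveI : IsLocallyArtinian G.left := IsLocallyArtinian.of_isImmersion G.left.isoSpec.hom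
  haveI : IsLocallyArtinian G₀.left := IsLocallyArtinian.of_isImmersion i₀.left
  haveI : DiscreteTopology G₀.left := inferInstance
  haveI : Subsingleton G₀.left := PreconnectedSpace.trivial_of_discrete
  haveI : IsAffine G₀.left := inferInstance
  haveI : IsArtinianRing Γ(G₀.left, ⊤) := inferInstance
  haveI : Surjective (η[G₀] : 𝟙_ (Over (Spec (CommRingCat.of k))) ⟶ G₀).left := by
    obtain ⟨s₀⟩ : Nonempty (Spec (CommRingCat.of k)) := inferInstance
    exact ⟨fun x => ⟨s₀, Subsingleton.elim _ _⟩⟩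
  -- the retraction
  obtain ⟨ρ, hρ⟩ := exists_retraction r
  have hρ1 : η[G] ≫ ρ = η[Gr] := by
    rw [← IsMonHom.one_hom (f := r), Category.assoc, hρ, Category.comp_id]
  have hρμ : μ[G] ≫ ρ = (ρ ⊗ₘ ρ) ≫ μ[Gr] := by
    refine hom_ext_of_surjective (r ⊗ₘ r) _ _ ?_
    have e1 : (r ⊗ₘ r) ≫ μ[G] ≫ ρ = μ[Gr] := by
      rw [← Category.assoc, ← IsMonHom.mul_hom, Category.assoc, hρ, Category.comp_id]
    have e2 : (r ⊗ₘ r) ≫ (ρ ⊗ₘ ρ) ≫ μ[Gr] = μ[Gr] := by
      rw [← Category.assoc, tensorHom_comp_tensorHom, hρ]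
      simp
    rw [e1, e2]
  haveI : IsMonHom ρ := ⟨hρ1, hρμ⟩
  have hi₀ρ : i₀ ≫ ρ = 1 := by
    refine hom_ext_of_surjective (η[G₀]) _ _ ?_
    rw [← Category.assoc, IsMonHom.one_hom (f := i₀), hρ1, MonObj.comp_one, Hom.one_def,
      toUnit_unique (toUnit (𝟙_ (Over (Spec (CommRingCat.of k))))) (𝟙 _), Category.id_comp]
  obtain ⟨θ, hθ⟩ : ∃ θ : G ⟶ G, θ = (ρ ≫ r)⁻¹ * 𝟙 G := ⟨_, rfl⟩
  have hrθ : r ≫ θ = 1 := by
    rw [hθ, MonObj.comp_mul, GrpObj.comp_inv, ← Category.assoc, hρ, Category.id_comp,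
      Category.comp_id, inv_mul_cancel]
  have hrange : Set.range θ.left ⊆ Set.range i₀.left := by
    rintro _ ⟨g, rfl⟩
    obtain ⟨a, rfl⟩ := r.left.surjective g
    have e1 : θ.left (r.left a) = (r ≫ θ).left a := by
      rw [Over.comp_left, Scheme.Hom.comp_apply]
    have e2 : (1 : Gr ⟶ G) = (toUnit Gr ≫ η[G₀]) ≫ i₀ := by
      rw [Category.assoc, IsMonHom.one_hom (f := i₀), Hom.one_def]
    rw [e1, hrθ, e2, Over.comp_left, Scheme.Hom.comp_apply]
    exact ⟨_, rfl⟩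
  obtain ⟨θ₀l, hθ₀l⟩ : ∃ t : G.left ⟶ G₀.left, t ≫ i₀.left = θ.left :=
    ⟨IsOpenImmersion.lift i₀.left θ.left hrange, IsOpenImmersion.lift_fac _ _ _⟩
  obtain ⟨θ₀, hθ₀⟩ : ∃ θ₀ : G ⟶ G₀, θ₀ ≫ i₀ = θ := by
    refine ⟨Over.homMk θ₀l ?_, ?_⟩
    · rw [← Over.w i₀, ← Category.assoc, hθ₀l, Over.w θ]
    · apply Over.OverMorphism.ext
      exact hθ₀l
  haveI : Mono i₀ := Over.mono_of_mono_left i₀
  obtain ⟨m, hm⟩ : ∃ m : Gr ⊗ G₀ ⟶ G, m = (r ⊗ₘ i₀) ≫ μ[G] := ⟨_, rfl⟩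
  rw [← hm]
  have hm' : ∀ {T : Over (Spec (CommRingCat.of k))} (a : T ⟶ Gr) (b : T ⟶ G₀),
      lift a b ≫ m = (a ≫ r) * (b ≫ i₀) := by
    intro T a b
    rw [hm, ← Category.assoc, lift_map, Hom.mul_def]
  have hψm : lift ρ θ₀ ≫ m = 𝟙 G := by
    rw [hm', hθ₀, hθ, mul_inv_cancel_left]
  haveI : Mono m := by
    refine ⟨fun {T} x y hxy => ?_⟩
    obtain ⟨a, b, rfl⟩ : ∃ a b, x = lift a b :=
      ⟨x ≫ fst _ _, x ≫ snd _ _, (lift_comp_fst_snd x).symm⟩
    obtain ⟨a', b', rfl⟩ : ∃ a b, y = lift a b :=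
      ⟨y ≫ fst _ _, y ≫ snd _ _, (lift_comp_fst_snd y).symm⟩
    rw [hm', hm'] at hxy
    have key : ∀ (a : T ⟶ Gr) (b : T ⟶ G₀), ((a ≫ r) * (b ≫ i₀)) ≫ ρ = a := by
      intro a b
      rw [MonObj.mul_comp _ _ ρ, Category.assoc, Category.assoc, hρ, hi₀ρ, Category.comp_id,
        MonObj.comp_one, _root_.mul_one]
    have h1 : a = a' := by rw [← key a b, ← key a' b', hxy]
    subst h1
    have h2 : b ≫ i₀ = b' ≫ i₀ := mul_left_cancel hxy
    rw [(cancel_mono i₀).mp h2]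
  have hmψ : m ≫ lift ρ θ₀ = 𝟙 _ := by
    rw [← cancel_mono m, Category.assoc, hψm, Category.comp_id, Category.id_comp]
  exact ⟨⟨lift ρ θ₀, hmψ, hψm⟩⟩

end Groth.Agent.H8.RedSplit
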